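import Cfsg.Agent.SporadicStructure.M24El
import Cfsg.Agent.H994.TwoGen.Chain
import Cfsg.Agent.H865.Three
import Cfsg.Agent.SporadicA.M24Trans
import Cfsg.Agent.J4.M24InvolData
import Cfsg.Agent.Lib.ListFast
import Cfsg.Agent.Prune
set_option linter.all false
prune_inst 0x7f00000000000000000000000000000000000000000000000000000000000000000000000000000000000000000000000000000000000000000000000000000000000000000000000000000000000000003fffffffffffffffffffffffffffbeffbdffffffff
open scoped Cfsg.Agent.FastGrp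

/-- decoders of the packed data (elaboration time only) -/
private noncomputable def pk61d (b S i : Nat) : Nat := Nat.mod (Nat.shiftRight S (Nat.mul b i)) (Nat.shiftLeft (nat_lit 1) b)
private noncomputable def pk61f {α : Type} (t : Nat) (f : Nat → α) : α := Nat.rec (f Nat.zero) (fun k _ => f (Nat.succ k)) t
private noncomputable def pk61l {α : Type} (f : Nat → α) (s e : Nat) (tl : List α) : List α :=
  pk61f e fun e => Nat.rec tl (fun k ih => List.cons (pk61f (Nat.sub e (Nat.succ k)) f) ih) (Nat.sub e s)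

-- part: H399/Gen/NatChain
section
/-!
# Two packed permutations generating `M24` (chain certificate evaluated on natural numbers)
-/

set_option autoImplicit false

namespace Cfsg.Agent.H399.Gen.NatChain

open Cfsg Cfsg.Agent.H994.TwoGen
open Cfsg.Agent.H994.TwoGen.Chain (ew size)
open Cfsg.Agent.SporadicStructure.M24El Cfsg.Agent.SporadicA.GolayBase Cfsg.Agent.SporadicA.GolayPerm

/-- the value of a word at a point (letters 0, 1, 2, 3 = `x, y, x⁻¹, y⁻¹`) -/
def evn (X Y X' Y' : ℕ) : List ℕ → ℕ → ℕ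
  | [], i => i
  | 0 :: w, i => papp X (evn X Y X' Y' w i)
  | 1 :: w, i => papp Y (evn X Y X' Y' w i)
  | 2 :: w, i => papp X' (evn X Y X' Y' w i)
  | _ :: w, i => papp Y' (evn X Y X' Y' w i)

theorem idx_ew {x y : Equiv.Perm GolayPt} {X Y X' Y' : ℕ} (hx : ∀ p, idx (x p) = papp X (idx p))
    (hy : ∀ p, idx (y p) = papp Y (idx p)) (hx' : ∀ p, idx (x⁻¹ p) = papp X' (idx p))
    (hy' : ∀ p, idx (y⁻¹ p) = papp Y' (idx p)) :
    ∀ (w : List ℕ) (p : GolayPt), idx (ew x y w p) = evn X Y X' Y' w (idx p)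
  | [], p => rfl
  | 0 :: w, p => by
    show idx (x (ew x y w p)) = papp X (evn X Y X' Y' w (idx p))
    rw [hx, idx_ew hx hy hx' hy' w p]
  | 1 :: w, p => by
    show idx (y (ew x y w p)) = papp Y (evn X Y X' Y' w (idx p))
    rw [hy, idx_ew hx hy hx' hy' w p]
  | 2 :: w, p => by
    show idx (x⁻¹ (ew x y w p)) = papp X' (evn X Y X' Y' w (idx p))
    rw [hx', idx_ew hx hy hx' hy' w p]
  | (_ + 3) :: w, p => by
    show idx (y⁻¹ (ew x y w p)) = papp Y' (evn X Y X' Y' w (idx p))
    rw [hy', idx_ew hx hy hx' hy' w p]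

/-- no repetition -/
def nodupB : List ℕ → Bool
  | [] => true
  | a :: l => (l.all fun b => !(Nat.beq a b)) && nodupB l

theorem nodup_of_nodupB : ∀ {l : List ℕ}, nodupB l = true → l.Nodup
  | [], _ => List.nodup_nil
  | a :: l, h => by
    rw [nodupB, Bool.and_eq_true] at h
    refine List.nodup_cons.2 ⟨fun ha => ?_, nodup_of_nodupB h.2⟩
    have h1 := List.all_eq_true.1 h.1 a ha
    rw [show Nat.beq a a = true from Nat.beq_refl a] at h1
    exact Bool.noConfusion h1

/-- the check of a stabiliser chain -/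
def okn (X Y X' Y' : ℕ) : List ℕ → List (ℕ × List (List ℕ)) → Bool
  | _, [] => true
  | prev, (b, ws) :: rest =>
    Nat.blt b 24 && ((ws.all fun w => prev.all fun p => Nat.beq (evn X Y X' Y' w p) p) &&
      (nodupB (ws.map fun w => evn X Y X' Y' w b) && okn X Y X' Y' (b :: prev) rest))

theorem ok_of_okn {x y : Equiv.Perm GolayPt} {X Y X' Y' : ℕ} (hx : ∀ p, idx (x p) = papp X (idx p))
    (hy : ∀ p, idx (y p) = papp Y (idx p)) (hx' : ∀ p, idx (x⁻¹ p) = papp X' (idx p))
    (hy' : ∀ p, idx (y⁻¹ p) = papp Y' (idx p)) :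
    ∀ (L : List (ℕ × List (List ℕ))) (prev : List ℕ), (∀ p ∈ prev, p < 24) → okn X Y X' Y' prev L = true →
      Chain.ok x y (prev.map pt) (L.map fun t => (pt t.1, t.2)) = true
  | [], _, _, _ => rfl
  | (b, ws) :: rest, prev, hp, h => by
    rw [okn, Bool.and_eq_true, Bool.and_eq_true, Bool.and_eq_true] at h
    obtain ⟨h0, h1, h2, h3⟩ := h
    have hb : b < 24 := Nat.blt_eq.mp h0
    have hev := idx_ew hx hy hx' hy'
    show Chain.ok x y (prev.map pt) ((pt b, ws) :: rest.map fun t => (pt t.1, t.2)) = true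
    rw [Chain.ok, Bool.and_eq_true, Bool.and_eq_true]
    refine ⟨?_, ?_, ?_⟩
    · rw [List.all_eq_true]
      intro w hw
      rw [List.all_eq_true]
      intro q hq
      obtain ⟨p, hpp, rfl⟩ := List.mem_map.1 hq
      apply decide_eq_true
      apply idx_injective
      rw [hev, idx_pt (hp p hpp)]
      exact Nat.eq_of_beq_eq_true (List.all_eq_true.1 (List.all_eq_true.1 h1 w hw) p hpp)
    · apply decide_eq_true
      have h4 := nodup_of_nodupB h2
      have h5 : (ws.map fun w => evn X Y X' Y' w b) = (ws.map fun w => ew x y w (pt b)).map idx := by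
        rw [List.map_map]
        refine List.map_congr_left fun w _ => ?_
        show _ = idx (ew x y w (pt b))
        rw [hev, idx_pt hb]
      rw [h5] at h4
      exact h4.of_map _
    · have h6 := ok_of_okn hx hy hx' hy' rest (b :: prev) (by
        intro p hpp
        rcases List.mem_cons.1 hpp with rfl | hpp
        · exact hb
        · exact hp p hpp) h3
      rwa [List.map_cons] at h6

theorem size_map (L : List (ℕ × List (List ℕ))) :
    size (L.map fun t => (pt t.1, t.2)) = (L.map fun t => t.2.length).prod := by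
  unfold size
  rw [List.map_map]
  rfl

/-- **two packed permutations with a chain of the right size generate `M24`** -/
theorem closure_eq_top {X Y X' Y' : ℕ} (hX : ok X = true) (hY : ok Y = true) (hX' : ok X' = true) (hY' : ok Y' = true)
    (hxx : pcomp X X' = idP) (hyy : pcomp Y Y' = idP) (L : List (ℕ × List (List ℕ)))
    (h : okn X Y X' Y' [] L = true) (hs : (L.map fun t => t.2.length).prod = 244823040) (hc : Nat.card M24 = 244823040) :
    Subgroup.closure ({el X, el Y} : Set M24) = ⊤ := by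
  have e1 : el X' = (el X)⁻¹ := by
    have := el_pcomp hX hX'
    rw [hxx, el_idP] at this
    exact (mul_eq_one_iff_inv_eq.1 this.symm).symm
  have e2 : el Y' = (el Y)⁻¹ := by
    have := el_pcomp hY hY'
    rw [hyy, el_idP] at this
    exact (mul_eq_one_iff_inv_eq.1 this.symm).symm
  have hid : ∀ {P : ℕ}, ok P = true → ∀ p, idx ((el P : Equiv.Perm GolayPt) p) = papp P (idx p) :=
    fun hP p => idx_el_smul hP p
  have hok := ok_of_okn (x := (el X : Equiv.Perm GolayPt)) (y := (el Y : Equiv.Perm GolayPt)) (hid hX) (hid hY)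
    (fun p => by
      have := hid hX' p
      rw [e1] at this
      exact this)
    (fun p => by
      have := hid hY' p
      rw [e2] at this
      exact this) L [] (by simp) h
  have h1 := Chain.closure_eq (K := M24) (el X).2 (el Y).2 _ hok (by rw [size_map, hs, hc])
  apply Subgroup.map_injective (Subgroup.subtype_injective M24)
  rw [MonoidHom.map_closure, Set.image_pair]
  simp only [Subgroup.coe_subtype]
  rw [← MonoidHom.range_eq_map, Subgroup.range_subtype]
  exact h1

end Cfsg.Agent.H399.Gen.NatChain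
end

-- part: H399/Gen/PairsM24
section
/-!
# Generating pairs of `M24` (certificates)
-/

set_option autoImplicit false

namespace Cfsg.Agent.H399.Gen.PairsM24

open Cfsg Cfsg.Agent.H399.Gen.NatChain
open Cfsg.Agent.SporadicStructure.M24El Cfsg.Agent.SporadicA.GolayBase Cfsg.Agent.SporadicA.GolayPerm

/-- orders 2, 3 -/
def x1 : ℕ := 726176561355509729351469681034231842
/-- second generator -/
def y1 : ℕ := 774181133956875478070186710967887556
/-- inverse -/
def u1 : ℕ := 726176561355509729351469681034231842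
/-- inverse -/
def v1 : ℕ := 458937835835615510533533979998657164

/-- chain -/
noncomputable def L1 : List (ℕ × List (List ℕ)) :=
  let y0 : List (ℕ × List (List ℕ)) := (by
  refine (?fq9001 : (pk61l (fun i0 => (_root_.Prod.mk (nat_lit 6) (pk61l (fun i1 => ((fun g1 : Nat → Nat => pk61l (fun i2 => (pk61d (nat_lit 2) 
    (nat_lit 0xe6e6eeeee6e6eee666ee6eeee666e6eee6d3111313331111311333111313111113131) i2)) (g1 i1) (g1 (Nat.succ i1)) List.nil) fun j => (pk61d (nat_lit 8) 
    (nat_lit 0x8a450000) j))) (nat_lit 0) (nat_lit 3) List.nil))) (nat_lit 0) (nat_lit 1) List.nil : List (ℕ × List (List ℕ)))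
    = ?xq9001 → (List (ℕ × List (List ℕ)))) ?hq9001; (case hq9001 => (set_option maxRecDepth 1000000 in conv => lhs; reduce)); intro _; exact ?xq9001 : List (ℕ × List (List ℕ)))
  let y1 : List (ℕ × List (List ℕ)) := (by
  refine (?fq9002 : (fun tl : List (ℕ × List (List ℕ)) => pk61l (fun i0 => (_root_.Prod.mk (pk61d (nat_lit 3) 
    (nat_lit 0x2c) i0) ((fun g0 : Nat → Nat => pk61l (fun i1 => ((fun g1 : Nat → Nat => pk61l (fun i2 => (pk61d (nat_lit 2) 
    (nat_lit 0x66666ee6e666eeee6666e66e66eeeed33313133311133133331113133313cc4cc444cc44cccc4c4c4cc4c44c44ccc44c4cc4c4cccccc4c4c71131133311131313113133313c4ccc44ccc444c4c44444c4c7113113331113131111131313113331131331313333339bbb99bbb999b9b999b4ccc4c4ccc444cc444c799b99bbb999b9b999b4ccc4c4ccc444cc4cc44c444c4ccc4c4c444c4ccc4f13131cc4ccc44ccc444c44cc4c44ccccd111133131331133113131133333cc4cccc4c4444c44cc44cc44cc46eeee6e6666e6ee6ee6e66eeeee66666ee6ee66ee66eee6eeee659999bb9bbb9b9bb99bb99b9bb44c4cc44cc44c4c444c44ccccccc4cccc4444c4c444c44ccc4cc4ccccc44c4c444c44ccc411331131333113311311330cc4cccc4c444ccc44cc4511333333311111113334c4cc44444ccccc44c4c44c4cc44c4c4444c4cc113111333111333133444c4444cc44cc4cfb9bbbb9b9999b998cc4cccc4c4444c4731133113311)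 i2)) (g1 i1) (g1 (Nat.succ i1)) List.nil) fun j => (pk61d (nat_lit 11) 
    (nat_lit 0x5aaadb4ca7ecc992d1961b40d7ccefdcd3756b8d159d33a606b314aa6145a7e8e39962d04ec888ea1862703c05706e05c00000) j))) (g0 i0) (g0 (Nat.succ i0)) List.nil) fun j => (pk61d (nat_lit 6) 
    (nat_lit 0x24500) j)))) (nat_lit 0) (nat_lit 2) tl)
    = ?xq9002 → (List (ℕ × List (List ℕ)))) ?hq9002; (case hq9002 => (set_option maxRecDepth 1000000 in conv => lhs; reduce)); intro _; exact ?xq9002 y0 : List (ℕ × List (List ℕ)))
  (by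
  refine (?fq9003 : (fun tl : List (ℕ × List (List ℕ)) => pk61l (fun i0 => (_root_.Prod.mk i0 ((fun g0 : Nat → Nat => pk61l (fun i1 => ((fun g1 : Nat → Nat => pk61l (fun i2 => (pk61d (nat_lit 2) 
    (nat_lit 0x333311113313111133133144c44c4444cc444c44c4513111113311333331330cccc4444c4c44cc4444ccc44cc4c444cc444c1311331331131133134c44cc4ccccc4c44f31311313313111333313111130cccc44cc4444333311113311cccc4444cc444cccc4c4444ee66e66eeeeecccc44cc444444444cc4cc4bbbb9b9bb99cc44c4c4444e66e66eeeed111133133133333111111131111133313111130ccc44c4c444443111111333330444cc44cccc4113313331113311133331330c4444cc444c31133311130ccc44cc44433333111110ccccccc44d3133113134cc44cc44c44cccc4cc44cc44c44c444ccc44c44cc4f313366e6444cc4444c44ccc51133331131444cc44c447999999bbb444cccccc5113311331131333133e66eeeeed11133331444444cc711111131c44ccc444ccc4c44413133311e66eeee711113313311134c4c4c1333304c4c331113c44f111313311c44c4f11310cc4ee447133bb110e734) i2)) (g1 i1) (g1 (Nat.succ i1)) List.nil) fun j => (pk61d (nat_lit 11) 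
    (nat_lit 0x163ab1539a233ae634a290319a26c34839011f6bd677eea1c937c6ced49a9334632bf972acc568a75432714b891d19a2041a7ecf49d8392700db9ae35c664c216f2b85249b124226408788e019e2f85709f1202103c06d0c816c2c0580a21282203e0700cc1702904a0840e81902a0480780c01201c0280300400400000) j))) (g0 i0) (g0 (Nat.succ i0)) List.nil) fun j => (pk61d (nat_lit 7) 
    (nat_lit 0x5a8abcc00) j)))) (nat_lit 0) (nat_lit 4) tl)
    = ?xq9003 → (List (ℕ × List (List ℕ)))) ?hq9003; (case hq9003 => (set_option maxRecDepth 1000000 in conv => lhs; reduce)); intro _; exact ?xq9003 y1 : List (ℕ × List (List ℕ)))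

private noncomputable def _root_.Cfsg.Agent.LsF.f01655a_0 : {f // @Cfsg.Agent.SporadicA.GolayPerm.papp = f} := ⟨_, by first | (delta Cfsg.Agent.SporadicA.GolayPerm.papp; rewrite [Cfsg.Agent.LsF.nmul_pat, Cfsg.Agent.LsF.nmod_pat, Cfsg.Agent.LsF.nshr_pat]; exact rfl) | exact rfl⟩
private noncomputable def _root_.Cfsg.Agent.LsF.f01655a_1 : {f // @Cfsg.Agent.H399.Gen.NatChain.evn = f} := ⟨_, by first | (delta Cfsg.Agent.H399.Gen.NatChain.evn List.brecOn List.brecOn.go Cfsg.Agent.H399.Gen.NatChain.evn._f; rewrite [Cfsg.Agent.LsF.f01655a_0.2]; (try delta Cfsg.Agent.H399.Gen.NatChain.evn.match_1); (try delta List.casesOn); (try rewrite [Cfsg.Agent.LsF.instDecEq_eq, Cfsg.Agent.LsF.dite_eq]); first | dsimp -zeta only | exact rfl) | exact rfl⟩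
private noncomputable def _root_.Cfsg.Agent.LsF.f01655a_2 : {f // @Cfsg.Agent.H399.Gen.NatChain.nodupB = f} := ⟨_, by first | (delta Cfsg.Agent.H399.Gen.NatChain.nodupB List.brecOn List.brecOn.go Cfsg.Agent.H399.Gen.NatChain.nodupB._f; rewrite [Cfsg.Agent.LsF.and_eq, Cfsg.Agent.LsF.not_eq, Cfsg.Agent.LsF.all_eq]; (try delta Cfsg.Agent.H399.Gen.NatChain.nodupB.match_1); (try delta List.casesOn); first | dsimp -zeta only | exact rfl) | exact rfl⟩
private noncomputable def _root_.Cfsg.Agent.LsF.f01655a_3 : {f // @Cfsg.Agent.H399.Gen.NatChain.okn = f} := ⟨_, by first | (delta Cfsg.Agent.H399.Gen.NatChain.okn List.brecOn List.brecOn.go Cfsg.Agent.H399.Gen.NatChain.okn._f; rewrite [Cfsg.Agent.LsF.f01655a_1.2, Cfsg.Agent.LsF.f01655a_2.2, Cfsg.Agent.LsF.and_eq, Cfsg.Agent.LsF.all_eq, Cfsg.Agent.LsF.map_eq]; (try delta Cfsg.Agent.H399.Gen.NatChain.okn.match_1); (try delta List.casesOn Prod.casesOn); first | dsimp -zeta only | exact rfl) | exact rfl⟩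
theorem top1 : Subgroup.closure ({el x1, el y1} : Set M24) = ⊤ :=
  closure_eq_top (X' := u1) (Y' := v1) (by decide +kernel) (by decide +kernel) (by decide +kernel) (by decide +kernel)
    (by decide +kernel) (by decide +kernel) L1 (by ((try (rewrite [Cfsg.Agent.LsF.f01655a_3.2])); decide +kernel)) (by decide +kernel) SporadicA.M24Trans.card_M24

/-- orders 2, 3 -/
def x2 : ℕ := 521366414552910786153029034648536137
/-- second generator -/
def y2 : ℕ := 587610965183916154067255885919526963
/-- inverse -/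
def u2 : ℕ := 521366414552910786153029034648536137
/-- inverse -/
def v2 : ℕ := 851108235656351690482612958249725994

/-- chain -/
noncomputable def L2 : List (ℕ × List (List ℕ)) :=
  let y0 : List (ℕ × List (List ℕ)) := (by
  refine (?fq9004 : (pk61l (fun i0 => (_root_.Prod.mk (nat_lit 6) (pk61l (fun i1 => ((fun g1 : Nat → Nat => pk61l (fun i2 => (pk61d (nat_lit 2) 
    (nat_lit 0xeee66eeee666ee6666ee666eeee666333111133311333311333111133111) i2)) (g1 i1) (g1 (Nat.succ i1)) List.nil) fun j => (pk61d (nat_lit 7) 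
    (nat_lit 0xf0f0000) j))) (nat_lit 0) (nat_lit 3) List.nil))) (nat_lit 0) (nat_lit 1) List.nil : List (ℕ × List (List ℕ)))
    = ?xq9004 → (List (ℕ × List (List ℕ)))) ?hq9004; (case hq9004 => (set_option maxRecDepth 1000000 in conv => lhs; reduce)); intro _; exact ?xq9004 : List (ℕ × List (List ℕ)))
  let y1 : List (ℕ × List (List ℕ)) := (by
  refine (?fq9005 : (fun tl : List (ℕ × List (List ℕ)) => pk61l (fun i0 => (_root_.Prod.mk (pk61d (nat_lit 3) 
    (nat_lit 0x2c) i0) ((fun g0 : Nat → Nat => pk61l (fun i1 => ((fun g1 : Nat → Nat => pk61l (fun i2 => (pk61d (nat_lit 2) 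
    (nat_lit 0x4c4c4ccc44cc4c44444444cc444ccc44ceeeee66eee6e66ee666eee6e66eee6e611313113331113313331313111133111313111331311133311331311133111114cc4c4ccccc4cc44c44c4cc4c4ccc471113111131113111333313133133326eee6e6ee6ee6e6e66eee66e666333133111331313113113131113331113331111333111311133313999bb9bbbbb999bbbb999bbb99cc444ccc4444ccc44444c44ccceee66e66666ee6e66e66ee1133133131133333133111999bb9b9999bbb9b4c444cccc4c44ccc1113113133131331331331111333111331111113113330cccc44c44c44cccccc44c99bbbb9b9bbbb9b999b9133311331311133111114cc444cccc44cccc4ccc44cc444c444c4cc44cccc4ccc4c4444c4c4444cc999bb9b9b99b9b99bbb8444cc4c4cc4c4c44ccc31311133111133331130cccc44c44c44c4c4444c444ccc4c4cc444ceeee66eee6e6eee673111313111331111b9b999bb9b999bb9999bb999ccc44cccc44ccc4c44ccc4c4) i2)) (g1 i1) (g1 (Nat.succ i1)) List.nil) fun j => (pk61d (nat_lit 11) 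
    (nat_lit 0x5cab11522844c891713e0c3e1758de1a23185d8b31562ac4f8945131fe3ac6b8c315e26e440748c51442043004806006000000) j))) (g0 i0) (g0 (Nat.succ i0)) List.nil) fun j => (pk61d (nat_lit 6) 
    (nat_lit 0x24500) j)))) (nat_lit 0) (nat_lit 2) tl)
    = ?xq9005 → (List (ℕ × List (List ℕ)))) ?hq9005; (case hq9005 => (set_option maxRecDepth 1000000 in conv => lhs; reduce)); intro _; exact ?xq9005 y0 : List (ℕ × List (List ℕ)))
  (by
  refine (?fq9006 : (fun tl : List (ℕ × List (List ℕ)) => pk61l (fun i0 => (_root_.Prod.mk i0 ((fun g0 : Nat → Nat => pk61l (fun i1 => ((fun g1 : Nat → Nat => pk61l (fun i2 => (pk61d (nat_lit 2) 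
    (nat_lit 0x26eee6e6ee6e6e666e1333131311313111331113111131113311333133111331111111131133333311119bb9bbb99b99bb44cc4cc444c44cf311131131133126eee6e6ee6eee9bb99b9bb9bbb84ccc4c4c44ccc11131131331130444c44c4c444cc4c444cc44447131113313112666ee6eee11131133304ccc44cbbb999ccc44433111131133333311311331131311c44cc4c4c444c4ccc444c4444c4cc44c4c4eee66e6e66ee11111333333044cc44c44cc113313133110cc44c44cc446e66eeee6ed1311113313ee66eeeeee711111133111133331111bb99999bb844ccccc44e66ee6ee79bbb99b9c44c44cc7133111313131311113131166ee6ed131133b9bb9b933333113113304c44c4cc444ccc4444ee6e6d3131133113131136ee6e6ee6631331cc4471136ee6e1111331113111133444c5113111111134445131111134473113b4f147134) i2)) (g1 i1) (g1 (Nat.succ i1)) List.nil) fun j => (pk61d (nat_lit 11) 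
    (nat_lit 0x148e804dd9792723ec6088709e063f17aceedd03876ded71a4b3a65cc89913035d0b415c2a15149cd2e24545c865021ef3b4718d99a031e5f8b695c2b8538a013324c464860ff1e43986d0cf1882e8580a6138248448820f61e03a8750d61842c04f08e0fc1c0310560941001b02e04c0800d01401c0280300400400000) j))) (g0 i0) (g0 (Nat.succ i0)) List.nil) fun j => (pk61d (nat_lit 7) 
    (nat_lit 0x5a8abcc00) j)))) (nat_lit 0) (nat_lit 4) tl)
    = ?xq9006 → (List (ℕ × List (List ℕ)))) ?hq9006; (case hq9006 => (set_option maxRecDepth 1000000 in conv => lhs; reduce)); intro _; exact ?xq9006 y1 : List (ℕ × List (List ℕ)))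

theorem top2 : Subgroup.closure ({el x2, el y2} : Set M24) = ⊤ :=
  closure_eq_top (X' := u2) (Y' := v2) (by decide +kernel) (by decide +kernel) (by decide +kernel) (by decide +kernel)
    (by decide +kernel) (by decide +kernel) L2 (by ((try (rewrite [Cfsg.Agent.LsF.f01655a_3.2])); decide +kernel)) (by decide +kernel) SporadicA.M24Trans.card_M24

/-- orders 3, 3 -/
def x3 : ℕ := 960825421553334439665008362244049969
/-- second generator -/
def y3 : ℕ := 608820120309282753896304720133426614
/-- inverse -/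
def u3 : ℕ := 965132897695136284939816039732028463
/-- inverse -/
def v3 : ℕ := 374758780931360589749738900413290997

/-- chain -/
noncomputable def L3 : List (ℕ × List (List ℕ)) :=
  (by
  refine (?fq9007 : ((pk61l (fun i1 => (_root_.Prod.mk i1 ((fun g1 : Nat → Nat => pk61l (fun i2 => ((fun g2 : Nat → Nat => pk61l (fun i3 => (pk61d (nat_lit 2) 
    (nat_lit 0xbbbb3b1b3b91999b3b8464cccec464e4644444eccee44c46e6e6c4c4cee4eeec4466e46ec4446c4444ee46c64ccc19913b3391b3b113ae6444e6ccee464ee46664ce66c4cc6e33b11b99b31b1339b9b1339b3b1b138eecc66c66c466e999b3b1399b93384cee4ce4ce64469bbb93b33b9198cec46646c444c4c6c6e4e6d31b13939b11b11193b919bb93b31131319913131913931399919bb1192ccc44ccc4cebb3931bb11326ee44e6c644666cec6c4e19b333b9bae6c4ecec6b9b39bb312e644c64c41991bb3386ee464ed1b3b1139b9b93136e6c4c4e4e46c463b93b1b39b1bbbb19b91b11846c444c9bbbb3126e464c4cec46ce666cee919b3b866e4ce19b133acee4669199118464cec1193330cec464b9b3b846c463bb3126c930e44ec6cc6c6e46eee444eee446eec444eec459b9333b13b8ec4cebbbb1aecec6bb9330ec461b1b06c4c13130e4c4ee47b111b84ecc64cd3b399c6c6f9bb3b1938ce46664e713194c4c59131b3911b3b464ccee333b3b9b331bb44ce631ac4cc7999b339193bcf9671b3e691c4e4)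 i3)) (g2 i2) (g2 (Nat.succ i2)) List.nil) fun j => (pk61d (nat_lit 11) 
    (nat_lit 0x316607bc578addd97ae954e99d149eb35e5d49d9011962543784909205bf37b6f0dd63956fcda9abb44662c7986afd5dab7967ac0562ac5502915049cd322574948f51822342c824fe1ef3c475ce61c13786dcdb9aa33a644c29792da588ab94c2824d895922232440838fe1ee3c0758e61cc36c680c717c2d4560a31342444407f0f01c4350630b81542804b08c1041e03c06e0cc1782b04e08c1001d03405c0a0120200380600a0100180200300400400000) j))) (g1 i1) (g1 (Nat.succ i1)) List.nil) fun j => (pk61d (nat_lit 8) 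
    (nat_lit 0x817e6e5a452f1800) j)))) (nat_lit 0) (nat_lit 7) List.nil) : List (ℕ × List (List ℕ)))
    = ?xq9007 → (List (ℕ × List (List ℕ)))) ?hq9007; (case hq9007 => (set_option maxRecDepth 1000000 in conv => lhs; reduce)); intro _; exact ?xq9007 : List (ℕ × List (List ℕ)))

theorem top3 : Subgroup.closure ({el x3, el y3} : Set M24) = ⊤ :=
  closure_eq_top (X' := u3) (Y' := v3) (by decide +kernel) (by decide +kernel) (by decide +kernel) (by decide +kernel)
    (by decide +kernel) (by decide +kernel) L3 (by ((try (rewrite [Cfsg.Agent.LsF.f01655a_3.2])); decide +kernel)) (by decide +kernel) SporadicA.M24Trans.card_M24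

/-- orders 3, 3 -/
def x4 : ℕ := 513063896757474546024332297931070020
/-- second generator -/
def y4 : ℕ := 374136161413957100934796561526471361
/-- inverse -/
def u4 : ℕ := 559840854971286823976171656505141876
/-- inverse -/
def v4 : ℕ := 541437825332792489087197739091208214

/-- chain -/
noncomputable def L4 : List (ℕ × List (List ℕ)) :=
  (by
  refine (?fq9008 : ((pk61l (fun i1 => (_root_.Prod.mk i1 ((fun g1 : Nat → Nat => pk61l (fun i2 => ((fun g2 : Nat → Nat => pk61l (fun i3 => (pk61d (nat_lit 2) 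
    (nat_lit 0xeec4ec4c6ece6c4e4db1b9319139b91b911bb1139111b9199b9b9be4644ec6cc666e6e6cec66cc46ecec466cfb3b119b33b19b3119933b91913b19b311a64ecce4cee6eccec919913119b1991b32464ee4cc6cc4e447bb1b99399b11b3b33bb933b31b13936c6e4e6466c4467b3b119b33b9933918ec66cc4664cee46473bb39991b9b33bb9111bb339b9b13131191b1bb9b9b991139193b31334c4c44e4ecee6e31333b39b933b0644c664c46cc6cce446c4eee6e6cec4e66f999b133318e666e4ccc6ee4c4e46c93b1b9b1126ec6cc4ee6444e44673bb1bbb311b9939133313b313366e646e66e6ec64c4e464e4cee64ee64ef1199bb38644ccee4ce4e6cc51b311b3311b9b3b399333b84666cc6464c4ee519b11199bb9b9b31b13936c6e4e64c4c44c6e4ccce466466ecc4e1b99119913931b199b84cce4ee4446e713bbb146664c4e4ce6413993bce444ee4ece191b10c64cdb33bbbb1399b39a64ce19b30e66d331aee47b11333139939b9b13b113933130ce6e6c6ceeccc4cdb9bb91b991184ec79933b98c4691133b04dbac7926f1a6533111133a6c51324b391c4e4) i3)) (g2 i2) (g2 (Nat.succ i2)) List.nil) fun j => (pk61d (nat_lit 11) 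
    (nat_lit 0x340e5dc738e70a5f1b9f6b6c5d6aa934a684cec99f2fa56c9c91722e36c50869061fe3e1790ec5cdb876e6d81a6b3b652c5d82af45c6b8d68ac1562a8548a814e298929a4446a8990c20a3f87b8f09d53946fcdf9b234a660c597e2e2590ac14d2844dc9692323243c830fd1ea3b4728dd1ba34c650c11702bc5389f12e23c4387f0ee1bc340610b414c2684908a1041e83d0720d41882d0520941101f0380640b0130200380600a0100180200300400400000) j))) (g1 i1) (g1 (Nat.succ i1)) List.nil) fun j => (pk61d (nat_lit 8) 
    (nat_lit 0x817e6e5a452f1800) j)))) (nat_lit 0) (nat_lit 7) List.nil) : List (ℕ × List (List ℕ)))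
    = ?xq9008 → (List (ℕ × List (List ℕ)))) ?hq9008; (case hq9008 => (set_option maxRecDepth 1000000 in conv => lhs; reduce)); intro _; exact ?xq9008 : List (ℕ × List (List ℕ)))

theorem top4 : Subgroup.closure ({el x4, el y4} : Set M24) = ⊤ :=
  closure_eq_top (X' := u4) (Y' := v4) (by decide +kernel) (by decide +kernel) (by decide +kernel) (by decide +kernel)
    (by decide +kernel) (by decide +kernel) L4 (by ((try (rewrite [Cfsg.Agent.LsF.f01655a_3.2])); decide +kernel)) (by decide +kernel) SporadicA.M24Trans.card_M24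

/-- orders 5, 7 -/
def x5 : ℕ := 58641611183022518803728335302641348
/-- second generator -/
def y5 : ℕ := 922586731163666269604220649823963179
/-- inverse -/
def u5 : ℕ := 375656216498375714283082182442536686
/-- inverse -/
def v5 : ℕ := 902294181529044414569873094362957860

/-- chain -/
noncomputable def L5 : List (ℕ × List (List ℕ)) :=
  (by
  refine (?fq9009 : ((pk61l (fun i1 => (_root_.Prod.mk i1 ((fun g1 : Nat → Nat => pk61l (fun i2 => ((fun g2 : Nat → Nat => pk61l (fun i3 => (pk61d (nat_lit 2) 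
    (nat_lit 0xe6c3eee631116931cc566596c6beba6994cc6ba443cecc3ec6fc150c59b33fb043011bb0f953a59496cce4f3f6e453ab3366406fb13565b1993cb1669653c96f3c33e405315afa5904f0ee0c515990695ae99cfa46f1951b3fa6596fe9410bbb3c11793efc6cfba591130cf1338ebbe56ae953a594310517905af07106ecf2be5bfb95951683efcfc454f14250658f3af30fcfeffb3bceec650fa6c165af391246bebae650d91afab31419050ecbee452659bf0f9683c5a66b1a0e432ba44bb040fef8515bef9b259140fefc153be96cc31943c664c3c1413bfb3e0fb946e116966596f253cf9b4c5e67311515bbd90fbbbeea9581195a4116430e42bf3bd5b93150ee0da6786c5bfa6b1bca4b030bee5a546c33ee5524) i3)) (g2 i2) (g2 (Nat.succ i2)) List.nil) fun j => (pk61d (nat_lit 11) 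
    (nat_lit 0x22e44c8790f21140a7ecf89e7bbc754e61c33746c4d419fb30644c89893025e4b8969ac456aa9d4ca8b4fa9bd30a5448e8e916a2343286506a013ea7a4ee9d238e6f0d89a6336644c397d2e85acb11592a2524a493f26c4b89311e22c438830fe1ee3c0748e21b6350668c61802e85a8b01602a45189d12e244458850fe1e43986d0d018c2f0590a81402684a08e1142184307c0e81b03205c0a81302203e0700c8160260400680b01201c0280300400400000) j))) (g1 i1) (g1 (Nat.succ i1)) List.nil) fun j => (pk61d (nat_lit 8) 
    (nat_lit 0x817e6e5a452f1800) j)))) (nat_lit 0) (nat_lit 7) List.nil) : List (ℕ × List (List ℕ)))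
    = ?xq9009 → (List (ℕ × List (List ℕ)))) ?hq9009; (case hq9009 => (set_option maxRecDepth 1000000 in conv => lhs; reduce)); intro _; exact ?xq9009 : List (ℕ × List (List ℕ)))

theorem top5 : Subgroup.closure ({el x5, el y5} : Set M24) = ⊤ :=
  closure_eq_top (X' := u5) (Y' := v5) (by decide +kernel) (by decide +kernel) (by decide +kernel) (by decide +kernel)
    (by decide +kernel) (by decide +kernel) L5 (by ((try (rewrite [Cfsg.Agent.LsF.f01655a_3.2])); decide +kernel)) (by decide +kernel) SporadicA.M24Trans.card_M24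

/-- orders 11, 3 -/
def x6 : ℕ := 541596334142806814324122336963843382
/-- second generator -/
def y6 : ℕ := 732417554822545252438570918860264853
/-- inverse -/
def u6 : ℕ := 623167589876338079704907419108915909
/-- inverse -/
def v6 : ℕ := 144114665548925991685545967339742407

/-- chain -/
noncomputable def L6 : List (ℕ × List (List ℕ)) :=
  (by
  refine (?fq9010 : ((pk61l (fun i1 => (_root_.Prod.mk i1 ((fun g1 : Nat → Nat => pk61l (fun i2 => ((fun g2 : Nat → Nat => pk61l (fun i3 => (pk61d (nat_lit 2) 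
    (nat_lit 0x2babac0e91004baaec1a9040424433ba90ee401a4c39aa6ba6ce6eb003b3130c404c64c10c031a6ca440c6cc43ab90cebbae6b9939abb03aba9a6aee6ab1aeaee9939ab10dae40c6cc2c4c4193b46ceb9b92a6b3a68306430111bb0c33b1aabb39b393b04ea47aeeb310ce66993bbb9aa43aaebab1aa41ae4e6e306ac4e84c6c43a06e40e9a43b9006a4406ec469bacc0910ceeb1bac3ac190c181a41393a6b3a413b0cef9aee6bba6ceea6aa6e4111aeaebeeaaeceb30e6aeb0039991001131aa906430c01ea9a6b0641a4c9acc1030431a80e6ba5ac43aeae684c4db9b8ceb0eaeaebaabb31b993119ae9b390e666c4113bbaba4c39c69b0404410ee11ae6b9ae66d331e6d31ed16c0c3babaa8cc60010c103b02c6c04e40cee4c66eb1ab24126aaa6c103300b364c619ac0cac3b86a713043a691c0e4) i3)) (g2 i2) (g2 (Nat.succ i2)) List.nil) fun j => (pk61d (nat_lit 11) 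
    (nat_lit 0x26ecc49572ae47c748b30fa15416804fbdeebcb772ea1cbb896f6dedb435668acd592b1560abd973ad8592ae955a9c51ea093aa684b696d26a3f46288d0b2093f87bcf11d53906ecd71a132a624bf1752da594b295a2a05189e13225047c8b10d2083ec790ea1c4368698cc18e3085f8bc1782d4570a71402644908b10a1fc3c8730da19c3085b0ac144260470840f81d03a06c0c81702a04e0901081e0360600a8120200380600a0100180200300400400000) j))) (g1 i1) (g1 (Nat.succ i1)) List.nil) fun j => (pk61d (nat_lit 8) 
    (nat_lit 0x817e6e5a452f1800) j)))) (nat_lit 0) (nat_lit 7) List.nil) : List (ℕ × List (List ℕ)))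
    = ?xq9010 → (List (ℕ × List (List ℕ)))) ?hq9010; (case hq9010 => (set_option maxRecDepth 1000000 in conv => lhs; reduce)); intro _; exact ?xq9010 : List (ℕ × List (List ℕ)))

theorem top6 : Subgroup.closure ({el x6, el y6} : Set M24) = ⊤ :=
  closure_eq_top (X' := u6) (Y' := v6) (by decide +kernel) (by decide +kernel) (by decide +kernel) (by decide +kernel)
    (by decide +kernel) (by decide +kernel) L6 (by ((try (rewrite [Cfsg.Agent.LsF.f01655a_3.2])); decide +kernel)) (by decide +kernel) SporadicA.M24Trans.card_M24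

/-- orders 23, 3 -/
def x7 : ℕ := 468221211564557231655020623252459749
/-- second generator -/
def y7 : ℕ := 230270397820562969122588279238803734
/-- inverse -/
def u7 : ℕ := 276702194455355867529527631018281065
/-- inverse -/
def v7 : ℕ := 125155956703011451722623928853776881

/-- chain -/
noncomputable def L7 : List (ℕ × List (List ℕ)) :=
  (by
  refine (?fq9011 : ((pk61l (fun i1 => (_root_.Prod.mk i1 ((fun g1 : Nat → Nat => pk61l (fun i2 => ((fun g2 : Nat → Nat => pk61l (fun i3 => (pk61d (nat_lit 2) 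
    (nat_lit 0xbbbae46e46c4db93b13b10444040c6e9b0c0cc66ae69b30041112eee910101baaaea9ab93bb86eeb9ac06e4ce93a6e46cc031aeb07b1306c19b1ae403003366aa6ab10fb9ba6e47b1304c464ce90c4719a466b433b0ce71a93aa413bb999baa906ace6e6bce66644ce413bac33b1190eababae9a6b9399a9a930c4e6ab0c4043190aaec664704664e4ecce4402b013acf39b13b9906ea43b10ccec0ec0d99ae46ba9b13c6b9b0ebaac4eaee939866666a901b1ae4c6e7331a9313b010e4eac30c446bbbae4013a9ea64c79b301b111326eee4c4111331036ae66a4cc36ec40f904030e6ebab3a6aee6433046c111a6c1b011331b1366eeba4e9aba040c1b04c13c4e1b96e96c446ec30efae6469aa4131044016b93ac0b0019ac1ad0cfb390eaa984c2c639110036a9940ea6a71324c10b3ea91c40e4) i3)) (g2 i2) (g2 (Nat.succ i2)) List.nil) fun j => (pk61d (nat_lit 11) 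
    (nat_lit 0x26c4bf94d29a4546f8ad10616c1980afc5ef3cb776eadcdb8c6fadf5b535768ccd592313604bc9712d2586ad152a975129ed37a634ae95d2523d46088d0ba0b3fe7ccf39db3a0714dd1af348664c71832f45c4b89662b6540a293a2604988e9142184107e0f41d83906e0d61a0328620be17c2d8578a81422684988c10a1f83b8710d61942f8590a61342404307c0e81b0360640b81582804a0880f81c0320580a0120200380600a0100180200300400400000) j))) (g1 i1) (g1 (Nat.succ i1)) List.nil) fun j => (pk61d (nat_lit 8) 
    (nat_lit 0x817e6e5a452f1800) j)))) (nat_lit 0) (nat_lit 7) List.nil) : List (ℕ × List (List ℕ)))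
    = ?xq9011 → (List (ℕ × List (List ℕ)))) ?hq9011; (case hq9011 => (set_option maxRecDepth 1000000 in conv => lhs; reduce)); intro _; exact ?xq9011 : List (ℕ × List (List ℕ)))

theorem top7 : Subgroup.closure ({el x7, el y7} : Set M24) = ⊤ :=
  closure_eq_top (X' := u7) (Y' := v7) (by decide +kernel) (by decide +kernel) (by decide +kernel) (by decide +kernel)
    (by decide +kernel) (by decide +kernel) L7 (by ((try (rewrite [Cfsg.Agent.LsF.f01655a_3.2])); decide +kernel)) (by decide +kernel) SporadicA.M24Trans.card_M24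

end Cfsg.Agent.H399.Gen.PairsM24
end

private theorem dce_45caf55b881c : _root_.True := by
  try have : _root_.True := by simp only [_root_.Cfsg.Agent.H399.Gen.NatChain.nodupB.eq_2]
  try have : _root_.True := by simp only [_root_.Cfsg.Agent.H399.Gen.NatChain.nodupB.eq_def]
  try have : _root_.True := by simp only [_root_.Cfsg.Agent.H399.Gen.NatChain.okn.eq_1]
  try have : _root_.True := by simp only [_root_.Cfsg.Agent.H399.Gen.NatChain.okn.eq_def]
  try have : _root_.True := by simp only [_root_.Cfsg.Agent.H399.Gen.NatChain.okn.eq_2]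
  try have : _root_.True := by simp only [_root_.Cfsg.Agent.H399.Gen.NatChain.nodupB.eq_1]
  exact _root_.True.intro
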