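import Cfsg.Agent.H147.Gen.Outer_m3
import Cfsg.Agent.H399.Gen.PairsM24
import Cfsg.Agent.J4.M24Invol
import Cfsg.Agent.KFacts.M24Two.Out
import Cfsg.Agent.S0365
import Cfsg.Prelude.Def_Spor_Mathieu
import Cfsg.Agent.Prune
set_option linter.all false
prune_inst 0x7f00000000000000000000000000000000000000000000000000000000000000000000000000000000000000000000000000000000000000000000000000000000000000000000000000000000000000003fffffffffffffffffffffffffffbeffbdffffffff
open scoped Cfsg.Agent.FastGrp

-- part: H399/Gen/Basic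
section
/-!
# S4327: classes of elements with Sylow subgroups of prime order
-/

set_option autoImplicit false

namespace Cfsg.Agent.H399.Gen

open Subgroup Cfsg.Agent.H147.Gen
open scoped Pointwise

variable {L : Type*} [Group L]

theorem sylow_eq [Finite L] {p : ℕ} (hp : p.Prime) (h2 : ¬ p ^ 2 ∣ Nat.card L) {x : L} (hx : orderOf x = p) :
    ∃ P : Sylow p L, (P : Subgroup L) = zpowers x := by
  have : Fact p.Prime := ⟨hp⟩
  have hP : IsPGroup p (zpowers x) := IsPGroup.of_card (n := 1) (by rw [Nat.card_zpowers, hx, pow_one])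
  obtain ⟨P, hP⟩ := hP.exists_le_sylow
  refine ⟨P, (eq_of_le_of_card_ge hP ?_).symm⟩
  rw [Nat.card_zpowers, hx]
  obtain ⟨n, hn⟩ := IsPGroup.iff_card.1 P.isPGroup'
  have h3 : p ^ n ∣ Nat.card L := hn ▸ Subgroup.card_subgroup_dvd_card _
  have h4 : n < 2 := by
    by_contra h
    exact h2 ((pow_dvd_pow p (by omega)).trans h3)
  show Nat.card (P : Subgroup L) ≤ p
  rw [hn]
  calc p ^ n ≤ p ^ 1 := Nat.pow_le_pow_right hp.pos (by omega)
    _ = p := pow_one p

theorem exists_conj_mem [Finite L] {p : ℕ} (hp : p.Prime) (h2 : ¬ p ^ 2 ∣ Nat.card L) {x g : L} (hx : orderOf x = p)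
    (hg : orderOf g = p) : ∃ a : L, a * g * a⁻¹ ∈ zpowers x := by
  have : Fact p.Prime := ⟨hp⟩
  obtain ⟨P, hP⟩ := sylow_eq hp h2 hx
  obtain ⟨Q, hQ⟩ := sylow_eq hp h2 hg
  obtain ⟨a, ha⟩ := MulAction.exists_smul_eq L Q P
  refine ⟨a, ?_⟩
  rw [← hP, ← ha, Sylow.coe_subgroup_smul, hQ]
  exact Subgroup.smul_mem_pointwise_smul g (MulAut.conj a) _ (mem_zpowers g)

/-- if `y` generates the same group as `x` -/
theorem CG.of_mem_zpowers {k p : ℕ} (hp : p.Prime) {x g : L} (hx : orderOf x = p) (hg : orderOf g = p)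
    (h : g ∈ zpowers x) (hC : CG k x) : CG k g := by
  have hfin : IsOfFinOrder x := orderOf_pos_iff.1 (hx ▸ hp.pos)
  have h1 : zpowers g = zpowers x := by
    have : Finite (zpowers x) := hfin.finite_zpowers
    apply Subgroup.eq_of_le_of_card_ge
    · rwa [zpowers_le]
    · rw [Nat.card_zpowers, Nat.card_zpowers, hx, hg]
  have h2 : x ∈ zpowers g := by rw [h1]; exact mem_zpowers x
  have hfg : IsOfFinOrder g := orderOf_pos_iff.1 (hg ▸ hp.pos)
  obtain ⟨m, h3⟩ := Submonoid.mem_powers_iff _ _ |>.1 (hfg.mem_powers_iff_mem_zpowers.2 h2)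
  rw [← h3] at hC
  exact CG.of_pow hC

/-- Sylow subgroups of prime order: one class -/
theorem genI_of_one [Finite L] {k p : ℕ} (hp : p.Prime) (h2 : ¬ p ^ 2 ∣ Nat.card L) {x : L} (hx : orderOf x = p)
    (hC : CG k x) : GenI L k p := by
  intro g hg
  obtain ⟨a, ha⟩ := exists_conj_mem hp h2 hx hg
  apply CG.of_conj a
  refine CG.of_mem_zpowers hp hx ?_ ha hC
  rw [← hg]
  exact MulEquiv.orderOf_eq (MulAut.conj a) g

theorem center_bot [IsSimpleGroup L] {g : L} {p : ℕ} (hg : orderOf g = p) (hp : p ≠ 1) (hc : Nat.card L ≠ p) :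
    center L = ⊥ := by
  rcases (inferInstance : (center L).Normal).eq_bot_or_eq_top with h | h
  · exact h
  · exfalso
    have hz : (zpowers g).Normal := ⟨fun n hn a => by
      have h1 : a ∈ center L := by rw [h]; exact mem_top a
      rwa [← mem_center_iff.1 h1 n, mul_inv_cancel_right]⟩
    rcases hz.eq_bot_or_eq_top with h1 | h1
    · rw [zpowers_eq_bot] at h1
      rw [h1, orderOf_one] at hg
      exact hp hg.symm
    · apply hc
      rw [← Subgroup.card_top, ← h1, Nat.card_zpowers, hg]

end Cfsg.Agent.H399.Gen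
end

-- part: H399/Gen/RowM24
section
/-!
# S4327: the row of `M24`
-/

set_option autoImplicit false

namespace Cfsg.Agent.H399.Gen.RowM24

open Cfsg Subgroup Cfsg.Agent.H147.Gen Cfsg.Agent.H399.Gen Cfsg.Agent.H399.Gen.PairsM24
open Cfsg.Agent.SporadicStructure.M24El Cfsg.Agent.SporadicA.GolayBase Cfsg.Agent.SporadicA.GolayPerm
open Cfsg.Agent.J4.M24InvolData Cfsg.Agent.J4.M24Invol

theorem card24 : Nat.card M24 = 244823040 := SporadicA.M24Trans.card_M24

theorem fin24 : Finite M24 := Nat.finite_of_card_ne_zero (by rw [card24]; decide)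

theorem simple24 : IsSimpleGroup M24 := S0365.result

/-- powers of packed permutations -/
def ppow (P : ℕ) : ℕ → ℕ
  | 0 => idP
  | n + 1 => pcomp (ppow P n) P

theorem ok_ppow {P : ℕ} (h : ok P = true) : ∀ n, ok (ppow P n) = true
  | 0 => ok_idP
  | n + 1 => ok_pcomp (ok_ppow h n) h

theorem el_ppow {P : ℕ} (h : ok P = true) : ∀ n, el (ppow P n) = el P ^ n
  | 0 => by rw [ppow, el_idP, pow_zero]
  | n + 1 => by rw [ppow, el_pcomp (ok_ppow h n) h, el_ppow h n, pow_succ]

theorem pow_eq_one {P n : ℕ} (h : ok P = true) (hn : ppow P n = idP) : el P ^ n = 1 := by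
  rw [← el_ppow h n, hn, el_idP]

theorem el_ne_one {P : ℕ} (h : ok P = true) (i : ℕ) (hi : i < 24) (hp : papp P i ≠ i) : el P ≠ 1 := by
  intro h1
  have h2 := idx_el_smul h (pt i)
  rw [h1, one_smul, idx_pt hi] at h2
  exact hp h2.symm

theorem ne_one {P : ℕ} (h : ok P = true) (h1 : (papp P 0 == 0 && papp P 1 == 1) = false) : el P ≠ 1 := by
  by_cases h2 : papp P 0 = 0
  · by_cases h3 : papp P 1 = 1
    · rw [h2, h3] at h1
      exact absurd h1 (by decide)
    · exact el_ne_one h 1 (by norm_num) h3
  · exact el_ne_one h 0 (by norm_num) h2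

theorem ord {P p : ℕ} (hp : p.Prime) (h : ok P = true) (h1 : (papp P 0 == 0 && papp P 1 == 1) = false)
    (hn : ppow P p = idP) : orderOf (el P) = p := by
  have : Fact p.Prime := ⟨hp⟩
  exact orderOf_eq_prime (pow_eq_one h hn) (ne_one h h1)

theorem cg_of_pair {X Y : ℕ} (hX : ok X = true) (hY : ok Y = true) (hX1 : (papp X 0 == 0 && papp X 1 == 1) = false)
    (h : closure ({el X, el Y} : Set M24) = ⊤) {n : ℕ} (hn : 0 < n) (hy : ppow Y n = idP) : CG n (el X) := by
  have := simple24
  exact CG.of_orbit (ne_one hX hX1) hn (pow_eq_one hY hy) h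

theorem cg_P1 : CG 3 (el P1) :=
  cg_of_pair (Y := y1) (by decide +kernel) (by decide +kernel) (by decide +kernel) top1 (by norm_num) (by decide +kernel)

theorem cg_P2 : CG 3 (el P2) :=
  cg_of_pair (Y := y2) (by decide +kernel) (by decide +kernel) (by decide +kernel) top2 (by norm_num) (by decide +kernel)

theorem cg_A : CG 3 (el H865.Three.A) :=
  cg_of_pair (Y := y3) (by decide +kernel) (by decide +kernel) (by decide +kernel) top3 (by norm_num) (by decide +kernel)

theorem cg_B : CG 3 (el H865.Three.B) :=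
  cg_of_pair (Y := y4) (by decide +kernel) (by decide +kernel) (by decide +kernel) top4 (by norm_num) (by decide +kernel)

theorem cg_five : CG 7 (el x5) :=
  cg_of_pair (Y := y5) (by decide +kernel) (by decide +kernel) (by decide +kernel) top5 (by norm_num) (by decide +kernel)

theorem cg_seven : CG 5 (el y5) :=
  cg_of_pair (Y := x5) (by decide +kernel) (by decide +kernel) (by decide +kernel) (by rw [Set.pair_comm]; exact top5)
    (by norm_num) (by decide +kernel)

theorem cg_eleven : CG 3 (el x6) :=
  cg_of_pair (Y := y6) (by decide +kernel) (by decide +kernel) (by decide +kernel) top6 (by norm_num) (by decide +kernel)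

theorem cg_23 : CG 3 (el x7) :=
  cg_of_pair (Y := y7) (by decide +kernel) (by decide +kernel) (by decide +kernel) top7 (by norm_num) (by decide +kernel)

theorem gen2 : GenI M24 3 2 := by
  intro g hg
  have h1 : g * g = 1 := by
    have := pow_orderOf_eq_one g
    rwa [hg, pow_two] at this
  have h2 : g ≠ 1 := by
    rintro rfl
    rw [orderOf_one] at hg
    exact absurd hg (by norm_num)
  obtain ⟨c, hc | hc⟩ := invol_conj g h1 h2
  · exact CG.of_conj c (hc ▸ cg_P1)
  · exact CG.of_conj c (hc ▸ cg_P2)

theorem gen3 : GenI M24 3 3 := by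
  intro g hg
  obtain ⟨c, hc | hc⟩ := H865.Three.conj_of_orderOf hg
  · exact CG.of_conj c (hc ▸ cg_A)
  · exact CG.of_conj c (hc ▸ cg_B)

theorem gen5 : GenI M24 7 5 := by
  have := fin24
  exact genI_of_one (by norm_num) (by rw [card24]; norm_num)
    (ord (by norm_num) (by decide +kernel) (by decide +kernel) (by decide +kernel)) cg_five

theorem gen7 : GenI M24 5 7 := by
  have := fin24
  exact genI_of_one (by norm_num) (by rw [card24]; norm_num)
    (ord (by norm_num) (by decide +kernel) (by decide +kernel) (by decide +kernel)) cg_seven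

theorem gen11 : GenI M24 3 11 := by
  have := fin24
  exact genI_of_one (by norm_num) (by rw [card24]; norm_num)
    (ord (by norm_num) (by decide +kernel) (by decide +kernel) (by decide +kernel)) cg_eleven

theorem gen23 : GenI M24 3 23 := by
  have := fin24
  exact genI_of_one (by norm_num) (by rw [card24]; norm_num)
    (ord (by norm_num) (by decide +kernel) (by decide +kernel) (by decide +kernel)) cg_23

/-- seven conjugates of every element of prime order generate `M24` -/
theorem genI {p : ℕ} (hp : p.Prime) : GenI M24 7 p := by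
  have := fin24
  by_cases hd : p ∣ Nat.card M24
  · rw [card24, show 244823040 = 2 ^ 10 * 3 ^ 3 * 5 * 7 * 11 * 23 by norm_num] at hd
    rcases hp.dvd_mul.1 hd with hd | hd
    · rcases hp.dvd_mul.1 hd with hd | hd
      · rcases hp.dvd_mul.1 hd with hd | hd
        · rcases hp.dvd_mul.1 hd with hd | hd
          · rcases hp.dvd_mul.1 hd with hd | hd
            · rw [(Nat.prime_dvd_prime_iff_eq hp Nat.prime_two).1 (hp.dvd_of_dvd_pow hd)]
              exact gen2.mono (by norm_num)
            · rw [(Nat.prime_dvd_prime_iff_eq hp Nat.prime_three).1 (hp.dvd_of_dvd_pow hd)]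
              exact gen3.mono (by norm_num)
          · rw [(Nat.prime_dvd_prime_iff_eq hp (by norm_num)).1 hd]
            exact gen5
        · rw [(Nat.prime_dvd_prime_iff_eq hp (by norm_num)).1 hd]
          exact gen7.mono (by norm_num)
      · rw [(Nat.prime_dvd_prime_iff_eq hp (by norm_num)).1 hd]
        exact gen11.mono (by norm_num)
    · rw [(Nat.prime_dvd_prime_iff_eq hp (by norm_num)).1 hd]
      exact gen23.mono (by norm_num)
  · intro g hg
    exact absurd (hg ▸ orderOf_dvd_natCard g) hd

theorem center24 : center M24 = ⊥ := by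
  have := simple24
  exact center_bot (g := el x7) (p := 23) (ord (by norm_num) (by decide +kernel) (by decide +kernel) (by decide +kernel))
    (by norm_num) (by rw [card24]; norm_num)

end Cfsg.Agent.H399.Gen.RowM24
end

private theorem dce_b752331f3b4f : _root_.True := by
  try have : _root_.True := by simp only [_root_.Cfsg.Agent.H399.Gen.RowM24.ppow.eq_1]
  try have : _root_.True := by simp only [_root_.Cfsg.Agent.H399.Gen.RowM24.ppow.eq_2]
  try have : _root_.True := by simp only [_root_.Cfsg.Agent.H399.Gen.RowM24.ppow.eq_def]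
  exact _root_.True.intro
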